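import Groth.Agent.L10.SerrePerf.Cmp
import Groth.Prelude.Def_SGA6

/-!
Tensoring with a perfect object is internal Hom out of its dual, naturally in both variables.
-/

set_option autoImplicit false
set_option linter.style.haveILetI false
set_option maxHeartbeats 800000
set_option backward.defeqAttrib.useBackward true
set_option backward.isDefEq.respectTransparency false
set_option backward.isDefEq.respectTransparency.types false

universe u

open CategoryTheory CategoryTheory.Limits AlgebraicGeometry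
attribute [local instance] HasDerivedCategory.standard

noncomputable section

namespace Groth.L10.SerrePerf

open Groth.L00 Groth.L29 Groth.L29.DC Groth.L07.BvdB.DualFun Groth.L10.DualNat

attribute [local instance] KFlat.hasLTensorCx RHom.hasRSheafHom

variable {X : Scheme.{u}}

local notation "Cx" => CochainComplex X.Modules ℤ
local notation "𝒬" => (DerivedCategory.Q : CochainComplex X.Modules ℤ ⥤ DerivedCategory X.Modules)

/-- the unit of the tensor product -/
def ltUnitIso : DCoh.LTensorCx (RHom.O0 X) ≅ 𝟭 (DCoh.D X) :=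
  Localization.liftNatIso 𝒬 (HomologicalComplex.quasiIso X.Modules (ComplexShape.up ℤ))
    (𝒬 ⋙ DCoh.LTensorCx (RHom.O0 X)) (𝒬 ⋙ 𝟭 (DCoh.D X)) _ _
    (Assoc.allIso _ (isKFlat_of_isStrictlyPerfect RHom.isStrictlyPerfect_O0) ≪≫
      Functor.isoWhiskerRight RHom.unitCxIso _ ≪≫ Functor.leftUnitor _ ≪≫ (Functor.rightUnitor _).symm)

/-- the unit of the bifunctor -/
def unitIso : (dten (X := X)).obj unit ≅ 𝟭 (DCoh.D X) :=
  (eps (X := X)).app (RHom.O0 X) ≪≫ ltUnitIso

/-- the right adjoint of the unit -/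
def unitIsoR : ((dten (X := X)).obj unit).rightAdjoint ≅ 𝟭 (DCoh.D X) :=
  ((adjB unit).ofNatIsoLeft unitIso).rightAdjointUniq Adjunction.id

/-- a K-injective unit -/
def I0 (X : Scheme.{u}) : CochainComplex X.Modules ℤ := (EvalMain.exists_kinj (unit (X := X))).choose

instance : (I0 X).IsKInjective := (EvalMain.exists_kinj (unit (X := X))).choose_spec.1

def e0 : DerivedCategory.Q.obj (I0 X) ≅ unit (X := X) :=
  (EvalMain.exists_kinj (unit (X := X))).choose_spec.2.some

/-- Hom out of the unit on K-injective complexes -/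
def z (J : Cx) [J.IsKInjective] :
    DerivedCategory.Q.obj ((HomCx.H (DCoh.tensorCx (X := X)).flip (I0 X)).obj J) ≅ DerivedCategory.Q.obj J :=
  haveI := isIso_xiT (I0 X) J
  asIso (xi (I0 X) J) ≪≫ (Giso e0.symm ≪≫ unitIsoR).app _

theorem z_natural {J J' : Cx} [J.IsKInjective] [J'.IsKInjective] (j : J ⟶ J') :
    DerivedCategory.Q.map j ≫ (z J').inv =
      (z J).inv ≫ DerivedCategory.Q.map ((HomCx.H (DCoh.tensorCx (X := X)).flip (I0 X)).map j) := by
  rw [Iso.eq_inv_comp, ← Category.assoc, Iso.comp_inv_eq]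
  simp only [z, Iso.trans_hom, asIso_hom, Category.assoc]
  rw [reassoc_of% xi_natural_right (I0 X) j]
  exact (congrArg (xi (I0 X) J ≫ ·) ((Giso e0.symm ≪≫ unitIsoR).hom.naturality (DerivedCategory.Q.map j))).symm

/-- the chain level dual -/
abbrev Ac (K : Cx) : Cx := EvalAbs.A (DCoh.tensorCx (X := X)) (I0 X) K

/-- comparison of the chain level dual with the dual -/
def q (K : Cx) : DerivedCategory.Q.obj (Ac K) ≅ dual (DerivedCategory.Q.obj K) :=
  haveI := isIso_xiT K (I0 X)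
  haveI : IsIso (RHomExact.mate (HomCx.adj (DCoh.tensorCx (X := X)).flip K) (Adjunction.ofIsLeftAdjoint ((DCoh.tensorCx (X := X)).obj K))
      (RHom.flipIso K).inv (I0 X)) := EvalAbs.isIso_mate _ _ (RHom.flipIso K).symm _
  DerivedCategory.Q.mapIso (asIso (RHomExact.mate (HomCx.adj (DCoh.tensorCx (X := X)).flip K)
      (Adjunction.ofIsLeftAdjoint ((DCoh.tensorCx (X := X)).obj K)) (RHom.flipIso K).inv (I0 X))) ≪≫
    asIso (xi K (I0 X)) ≪≫ ((dten (X := X)).obj (DerivedCategory.Q.obj K)).rightAdjoint.mapIso e0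

theorem q_natural {K K' : Cx} (g : K ⟶ K') :
    DerivedCategory.Q.map (EvalAbs.mA (DCoh.tensorCx (X := X)) (I0 X) g) ≫ (q K).hom =
      (q K').hom ≫ dualMap (DerivedCategory.Q.map g) := by
  have h1 : EvalAbs.mA (DCoh.tensorCx (X := X)) (I0 X) g ≫ RHomExact.mate (HomCx.adj (DCoh.tensorCx (X := X)).flip K)
        (Adjunction.ofIsLeftAdjoint ((DCoh.tensorCx (X := X)).obj K)) (RHom.flipIso K).inv (I0 X) =
      RHomExact.mate (HomCx.adj (DCoh.tensorCx (X := X)).flip K') (Adjunction.ofIsLeftAdjoint ((DCoh.tensorCx (X := X)).obj K'))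
        (RHom.flipIso K').inv (I0 X) ≫ HomCx.m (DCoh.tensorCx (X := X)).flip g (I0 X) := by
    rw [EvalAbs.mA, HomCx.m, EvalAbs.mate_comp, EvalAbs.mate_comp]
    congr 1
    rw [Iso.inv_comp_eq, ← Category.assoc, Iso.eq_comp_inv]
    exact flipIso_natural g
  simp only [q, Iso.trans_hom, Functor.mapIso_hom, asIso_hom, Category.assoc]
  rw [← Functor.map_comp_assoc, h1, Functor.map_comp_assoc, ← reassoc_of% (xi_natural_left g (I0 X))]
  congr 2
  exact ((G (DerivedCategory.Q.map g)).naturality (e0 (X := X)).hom).symm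

/-- covariant right adjoint of the dual -/
def RD {A B : DCoh.D X} (f : A ⟶ B) :
    ((dten (X := X)).obj (dual A)).rightAdjoint ⟶ ((dten (X := X)).obj (dual B)).rightAdjoint :=
  G (dualMap f)

section Gen

theorem chain5 {C : Type*} [Category C] {A₀ A₁ A₂ A₃ A₄ A₅ B₀ B₁ B₂ B₃ B₄ B₅ : C}
    {a₁ : A₀ ⟶ A₁} {a₂ : A₁ ⟶ A₂} {a₃ : A₂ ⟶ A₃} {a₄ : A₃ ⟶ A₄} {a₅ : A₄ ⟶ A₅}
    {b₁ : B₀ ⟶ B₁} {b₂ : B₁ ⟶ B₂} {b₃ : B₂ ⟶ B₃} {b₄ : B₃ ⟶ B₄} {b₅ : B₄ ⟶ B₅}
    {v₀ : A₀ ⟶ B₀} {v₁ : A₁ ⟶ B₁} {v₂ : A₂ ⟶ B₂} {v₃ : A₃ ⟶ B₃} {v₄ : A₄ ⟶ B₄} {v₅ : A₅ ⟶ B₅}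
    (h₁ : v₀ ≫ b₁ = a₁ ≫ v₁) (h₂ : v₁ ≫ b₂ = a₂ ≫ v₂) (h₃ : v₂ ≫ b₃ = a₃ ≫ v₃) (h₄ : v₃ ≫ b₄ = a₄ ≫ v₄)
    (h₅ : v₄ ≫ b₅ = a₅ ≫ v₅) :
    v₀ ≫ b₁ ≫ b₂ ≫ b₃ ≫ b₄ ≫ b₅ = (a₁ ≫ a₂ ≫ a₃ ≫ a₄ ≫ a₅) ≫ v₅ := by
  simp only [Category.assoc]
  rw [reassoc_of% h₁, reassoc_of% h₂, reassoc_of% h₃, reassoc_of% h₄, h₅]

variable (T : CochainComplex X.Modules ℤ ⥤ CochainComplex X.Modules ℤ ⥤ CochainComplex X.Modules ℤ)
  [∀ P, (T.obj P).IsLeftAdjoint] [∀ P, (T.flip.obj P).IsLeftAdjoint]
  (α : ∀ K L, T.flip.obj K ⋙ T.flip.obj L ≅ T.flip.obj ((T.obj K).obj L))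
  (c : ∀ A : CochainComplex X.Modules ℤ,
    DerivedCategory.Q ⋙ (dten (X := X)).obj (DerivedCategory.Q.obj A) ⟶ T.flip.obj A ⋙ DerivedCategory.Q)
  (I : CochainComplex X.Modules ℤ)
  (qq : ∀ K : CochainComplex X.Modules ℤ, DerivedCategory.Q.obj (EvalAbs.A T I K) ≅ dual (DerivedCategory.Q.obj K))
  (zz : ∀ (J : CochainComplex X.Modules ℤ) [J.IsKInjective],
    DerivedCategory.Q.obj ((HomCx.H T.flip I).obj J) ≅ DerivedCategory.Q.obj J)

/-- comparison of the Hom complex, in general -/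
def gxi (A J : CochainComplex X.Modules ℤ) : DerivedCategory.Q.obj ((HomCx.H T.flip A).obj J) ⟶
    ((dten (X := X)).obj (DerivedCategory.Q.obj A)).rightAdjoint.obj (DerivedCategory.Q.obj J) :=
  (adjB (DerivedCategory.Q.obj A)).homEquiv _ _ (evG 𝒬 (HomCx.adj T.flip A) (c A) J)

/-- the comparison, in general -/
def gη (K J : CochainComplex X.Modules ℤ) [J.IsKInjective] :
    ((dten (X := X)).obj (DerivedCategory.Q.obj K)).obj (DerivedCategory.Q.obj J) ⟶
      ((dten (X := X)).obj (dual (DerivedCategory.Q.obj K))).rightAdjoint.obj (DerivedCategory.Q.obj J) :=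
  ((dten (X := X)).obj (DerivedCategory.Q.obj K)).map (zz J).inv ≫
    (c K).app ((HomCx.H T.flip I).obj J) ≫
    DerivedCategory.Q.map (EvalAbs.κ T α I J K) ≫ gxi T c (EvalAbs.A T I K) J ≫ (G (qq K).inv).app _

theorem isIso_gη (K J : CochainComplex X.Modules ℤ) [J.IsKInjective]
    [IsIso ((c K).app ((HomCx.H T.flip I).obj J))] [IsIso (DerivedCategory.Q.map (EvalAbs.κ T α I J K))]
    [IsIso (gxi T c (EvalAbs.A T I K) J)] [IsIso (G (qq K).inv)] : IsIso (gη T α c I qq zz K J) := by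
  unfold gη
  infer_instance

theorem gη_natural_right
    (hz : ∀ {J J' : CochainComplex X.Modules ℤ} [J.IsKInjective] [J'.IsKInjective] (j : J ⟶ J'),
      DerivedCategory.Q.map j ≫ (zz J').inv =
        (zz J).inv ≫ DerivedCategory.Q.map ((HomCx.H T.flip I).map j))
    (K : CochainComplex X.Modules ℤ) {J J' : CochainComplex X.Modules ℤ} [J.IsKInjective] [J'.IsKInjective]
    (j : J ⟶ J') :
    ((dten (X := X)).obj (DerivedCategory.Q.obj K)).map (DerivedCategory.Q.map j) ≫ gη T α c I qq zz K J' =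
      gη T α c I qq zz K J ≫
        ((dten (X := X)).obj (dual (DerivedCategory.Q.obj K))).rightAdjoint.map (DerivedCategory.Q.map j) :=
  chain5
    (v₁ := ((dten (X := X)).obj (DerivedCategory.Q.obj K)).map
      (DerivedCategory.Q.map ((HomCx.H T.flip I).map j)))
    (by rw [← Functor.map_comp, hz j, Functor.map_comp])
    ((c K).naturality ((HomCx.H T.flip I).map j))
    (((DerivedCategory.Q (C := X.Modules)).map_comp _ _).symm.trans
      ((congrArg (DerivedCategory.Q (C := X.Modules)).map (kappa_natural_right T α I K j)).trans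
        ((DerivedCategory.Q (C := X.Modules)).map_comp _ _)))
    ((xiG 𝒬 (HomCx.adj T.flip (EvalAbs.A T I K)) (adjB _) (c (EvalAbs.A T I K)) ⊤).naturality
      (ObjectProperty.homMk j :
        (⟨J, trivial⟩ : (⊤ : ObjectProperty (CochainComplex X.Modules ℤ)).FullSubcategory) ⟶ ⟨J', trivial⟩))
    ((G (qq K).inv).naturality (DerivedCategory.Q.map j))

theorem gη_natural_left
    (h₂ : ∀ (P : CochainComplex X.Modules ℤ) {K K' : CochainComplex X.Modules ℤ} (g : K ⟶ K')
      (L : CochainComplex X.Modules ℤ), (T.map ((T.obj P).map g)).app L ≫ (α K' L).hom.app P =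
        (α K L).hom.app P ≫ (T.obj P).map ((T.map g).app L))
    (h₃ : ∀ (P K : CochainComplex X.Modules ℤ) {L L' : CochainComplex X.Modules ℤ} (g : L ⟶ L'),
      (T.obj ((T.obj P).obj K)).map g ≫ (α K L').hom.app P =
        (α K L).hom.app P ≫ (T.obj P).map ((T.obj K).map g))
    (hc : ∀ {A B : CochainComplex X.Modules ℤ} (g : A ⟶ B) (P : CochainComplex X.Modules ℤ),
      ((dten (X := X)).map (DerivedCategory.Q.map g)).app (DerivedCategory.Q.obj P) ≫ (c B).app P =
        (c A).app P ≫ DerivedCategory.Q.map ((T.flip.map g).app P))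
    (hq : ∀ {K K' : CochainComplex X.Modules ℤ} (g : K ⟶ K'),
      DerivedCategory.Q.map (EvalAbs.mA T I g) ≫ (qq K).hom = (qq K').hom ≫ dualMap (DerivedCategory.Q.map g))
    {K K' : CochainComplex X.Modules ℤ} (g : K ⟶ K') (J : CochainComplex X.Modules ℤ) [J.IsKInjective] :
    ((dten (X := X)).map (DerivedCategory.Q.map g)).app (DerivedCategory.Q.obj J) ≫ gη T α c I qq zz K' J =
      gη T α c I qq zz K J ≫ (RD (DerivedCategory.Q.map g)).app (DerivedCategory.Q.obj J) := by
  have hG : G (DerivedCategory.Q.map (EvalAbs.mA T I g)) ≫ G (qq K').inv =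
      G (qq K).inv ≫ RD (DerivedCategory.Q.map g) := by
    rw [RD, ← G_comp, ← G_comp]
    congr 1
    rw [Iso.inv_comp_eq, ← Category.assoc, Iso.eq_comp_inv]
    exact hq g
  exact chain5
    (((dten (X := X)).map (DerivedCategory.Q.map g)).naturality (zz J).inv).symm
    (hc g ((HomCx.H T.flip I).obj J))
    (((DerivedCategory.Q (C := X.Modules)).map_comp _ _).symm.trans
      ((congrArg (DerivedCategory.Q (C := X.Modules)).map (EvalAbs.κ_natural T α h₂ h₃ I J g)).trans
        ((DerivedCategory.Q (C := X.Modules)).map_comp _ _)))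
    (xiG_change 𝒬 (HomCx.adj T.flip (EvalAbs.A T I K')) (adjB (DerivedCategory.Q.obj (EvalAbs.A T I K')))
      (c (EvalAbs.A T I K')) (HomCx.adj T.flip (EvalAbs.A T I K))
      (adjB (DerivedCategory.Q.obj (EvalAbs.A T I K))) (c (EvalAbs.A T I K))
      (T.flip.map (EvalAbs.mA T I g)) ((dten (X := X)).map (DerivedCategory.Q.map (EvalAbs.mA T I g)))
      (hc (EvalAbs.mA T I g)) J).symm
    (congr_app hG (DerivedCategory.Q.obj J))

end Gen

variable {K : CochainComplex X.Modules ℤ} (hK : DCoh.IsKFlat K) (hKp : DCoh.IsPerfect (DerivedCategory.Q.obj K))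

/-- the comparison on K-injective complexes -/
def ηJ (J : Cx) [J.IsKInjective] :
    ((dten (X := X)).obj (DerivedCategory.Q.obj K)).obj (DerivedCategory.Q.obj J) ⟶
      ((dten (X := X)).obj (dual (DerivedCategory.Q.obj K))).rightAdjoint.obj (DerivedCategory.Q.obj J) :=
  gη (DCoh.tensorCx (X := X)) (fun K L => Assoc.assocFunctor K L) cT (I0 X) q (fun J _ => z J) K J

include hK hKp in
theorem isIso_ηJ (J : Cx) [J.IsKInjective] : IsIso (ηJ (K := K) J) :=
  haveI := isIso_cT hK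
  @isIso_gη _ (DCoh.tensorCx (X := X)) _ _ (fun K L => Assoc.assocFunctor K L) cT (I0 X) q (fun J _ => z J) K J _
    inferInstance (EvalMain.isIso_Q_κ (I0 X) J hK hKp) (isIso_xiT (Ac K) J) (Giso (q K).symm).isIso_hom

omit hK hKp in
theorem ηJ_natural_right {J J' : Cx} [J.IsKInjective] [J'.IsKInjective] (j : J ⟶ J') :
    ((dten (X := X)).obj (DerivedCategory.Q.obj K)).map (DerivedCategory.Q.map j) ≫ ηJ (K := K) J' =
      ηJ (K := K) J ≫
        ((dten (X := X)).obj (dual (DerivedCategory.Q.obj K))).rightAdjoint.map (DerivedCategory.Q.map j) :=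
  gη_natural_right (DCoh.tensorCx (X := X)) (fun K L => Assoc.assocFunctor K L) cT (I0 X) q (fun J _ => z J)
    (fun j => z_natural j) K j

omit hK hKp in
theorem ηJ_natural_left {K K' : Cx} (g : K ⟶ K') (J : Cx) [J.IsKInjective] :
    ((dten (X := X)).map (DerivedCategory.Q.map g)).app (DerivedCategory.Q.obj J) ≫ ηJ (K := K') J =
      ηJ (K := K) J ≫ (RD (DerivedCategory.Q.map g)).app (DerivedCategory.Q.obj J) :=
  gη_natural_left (DCoh.tensorCx (X := X)) (fun K L => Assoc.assocFunctor K L) cT (I0 X) q (fun J _ => z J)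
    (fun P _ _ g L => Eval.assoc₂ P g L) (fun P K _ _ g => Eval.assoc₃ P K g)
    (fun g P => cT_natural g P) (fun g => q_natural g) g J

/-- a K-injective representative -/
def repJ (M : DCoh.D X) : Cx := (EvalMain.exists_kinj M).choose

instance (M : DCoh.D X) : (repJ M).IsKInjective := (EvalMain.exists_kinj M).choose_spec.1

def repJIso (M : DCoh.D X) : DerivedCategory.Q.obj (repJ M) ≅ M := (EvalMain.exists_kinj M).choose_spec.2.some

/-- the comparison -/
def η (K : Cx) : (dten (X := X)).obj (DerivedCategory.Q.obj K) ⟶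
    ((dten (X := X)).obj (dual (DerivedCategory.Q.obj K))).rightAdjoint where
  app M := ((dten (X := X)).obj (DerivedCategory.Q.obj K)).map (repJIso M).inv ≫ ηJ (K := K) (repJ M) ≫
    ((dten (X := X)).obj (dual (DerivedCategory.Q.obj K))).rightAdjoint.map (repJIso M).hom
  naturality {M M'} f := by
    obtain ⟨g, hg⟩ := DerAdj.exists_Q_map ((repJIso M).hom ≫ f ≫ (repJIso M').inv)
    have hn := ηJ_natural_right (K := K) g
    rw [hg] at hn
    have h1 : f ≫ (repJIso M').inv = (repJIso M).inv ≫ (repJIso M).hom ≫ f ≫ (repJIso M').inv :=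
      ((repJIso M).inv_hom_id_assoc _).symm
    rw [← Functor.map_comp_assoc, h1, Functor.map_comp_assoc, reassoc_of% hn]
    simp only [Category.assoc]
    congr 2
    rw [← Functor.map_comp, ← Functor.map_comp]
    simp

include hK hKp in
theorem isIso_η : IsIso (η K) := by
  haveI : ∀ M, IsIso ((η K).app M) := fun M => by
    haveI := isIso_ηJ hK hKp (repJ M)
    unfold η
    infer_instance
  exact NatIso.isIso_of_isIso_app _

omit hK hKp in
theorem η_natural {K K' : Cx} (g : K ⟶ K') :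
    (dten (X := X)).map (DerivedCategory.Q.map g) ≫ η K' = η K ≫ RD (DerivedCategory.Q.map g) := by
  ext M
  simp only [NatTrans.comp_app, η, Category.assoc]
  rw [← ((dten (X := X)).map (DerivedCategory.Q.map g)).naturality_assoc, reassoc_of% (ηJ_natural_left g (repJ M))]
  congr 2
  exact ((RD (DerivedCategory.Q.map g)).naturality (repJIso M).hom).symm

omit hK hKp in
theorem RD_id (A : DCoh.D X) : RD (𝟙 A) = 𝟙 _ := by rw [RD, dualMap_id, G_id]

omit hK hKp in
theorem RD_comp {A B C : DCoh.D X} (f : A ⟶ B) (g : B ⟶ C) : RD (f ≫ g) = RD f ≫ RD g := by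
  rw [RD, RD, RD, dualMap_comp, G_comp]

/-- tensoring with a perfect object is internal Hom out of the dual -/
def ηD {A : DCoh.D X} (hA : DCoh.IsPerfect A) :
    (dten (X := X)).obj A ≅ ((dten (X := X)).obj (dual A)).rightAdjoint :=
  haveI := isIso_η (isKFlat_rep A) (isPerfect_of_iso (repIso A).symm hA)
  (dten (X := X)).mapIso (repIso A).symm ≪≫ asIso (η (rep A)) ≪≫
    { hom := RD (repIso A).hom
      inv := RD (repIso A).inv
      hom_inv_id := by rw [← RD_comp, Iso.hom_inv_id, RD_id]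
      inv_hom_id := by rw [← RD_comp, Iso.inv_hom_id, RD_id] }

omit hK hKp in
theorem ηD_natural {A B : DCoh.D X} (hA : DCoh.IsPerfect A) (hB : DCoh.IsPerfect B) (f : A ⟶ B) :
    (dten (X := X)).map f ≫ (ηD hB).hom = (ηD hA).hom ≫ RD f := by
  let f' := (repIso A).hom ≫ f ≫ (repIso B).inv
  obtain ⟨X', s, hs, g, hfg⟩ := DerivedCategory.right_fac f'
  let r := (KFlat.rF X).app X'
  haveI := KFlat.quasiIso_rF X'
  haveI : IsIso (DerivedCategory.Q.map r) := (DerivedCategory.isIso_Q_map_iff_quasiIso _ r).2 inferInstance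
  have key : (dten (X := X)).map f' ≫ η (rep B) = η (rep A) ≫ RD f' := by
    have h2 : DerivedCategory.Q.map (r ≫ s) ≫ f' = DerivedCategory.Q.map (r ≫ g) := by
      rw [hfg, Functor.map_comp, Category.assoc, IsIso.hom_inv_id_assoc, Functor.map_comp]
    haveI : IsIso (DerivedCategory.Q.map (r ≫ s)) := by rw [Functor.map_comp]; infer_instance
    refine (cancel_epi ((dten (X := X)).map (DerivedCategory.Q.map (r ≫ s)))).1 ?_
    rw [← Functor.map_comp_assoc, h2, η_natural, ← Category.assoc, η_natural, Category.assoc, ← RD_comp, h2]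
  simp only [ηD, Iso.trans_hom, Functor.mapIso_hom, Iso.symm_hom, asIso_hom, Category.assoc]
  rw [← RD_comp, ← Functor.map_comp_assoc,
    show f ≫ (repIso B).inv = (repIso A).inv ≫ f' from ((repIso A).inv_hom_id_assoc _).symm,
    Functor.map_comp_assoc, reassoc_of% key, ← RD_comp]
  congr 3
  simp [f']

end Groth.L10.SerrePerf
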