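import Groth.Agent.L07.BvdB.DualFun
import Groth.Agent.L10.DualNat.Main

/-!
Naturality of the comparisons between Hom complexes and the right adjoints of the derived tensor bifunctor.
-/

set_option autoImplicit false
set_option linter.style.haveILetI false
set_option backward.defeqAttrib.useBackward true
set_option backward.isDefEq.respectTransparency false
set_option backward.isDefEq.respectTransparency.types false

universe u

open CategoryTheory CategoryTheory.Limits AlgebraicGeometry
attribute [local instance] HasDerivedCategory.standard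

noncomputable section

namespace Groth.L10.SerrePerf

open Groth.L00 Groth.L29 Groth.L29.DC Groth.L07.BvdB.DualFun Groth.L10.DualNat

attribute [local instance] KFlat.hasLTensorCx RHom.hasRSheafHom

variable {X : Scheme.{u}}

local notation "Cx" => CochainComplex X.Modules ℤ
local notation "𝒬" => (DerivedCategory.Q : CochainComplex X.Modules ℤ ⥤ DerivedCategory X.Modules)

/-- contravariance of the right adjoints of the bifunctor -/
def G {A B : DCoh.D X} (f : A ⟶ B) :
    ((dten (X := X)).obj B).rightAdjoint ⟶ ((dten (X := X)).obj A).rightAdjoint where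
  app M := RHomExact.mate (adjB A) (adjB B) ((dten (X := X)).map f) M
  naturality {M N} g := by
    apply ((adjB A).homEquiv _ _).symm.injective
    rw [RHomExact.symm_comp_mate, Adjunction.homEquiv_naturality_right_symm]
    rw [Adjunction.homEquiv_counit, RHomExact.mate, Equiv.symm_apply_apply, Category.assoc,
      Adjunction.counit_naturality]

theorem G_id (A : DCoh.D X) : G (𝟙 A) = 𝟙 _ := by
  ext M
  show RHomExact.mate (adjB A) (adjB A) ((dten (X := X)).map (𝟙 A)) M = 𝟙 _
  rw [CategoryTheory.Functor.map_id]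
  exact EvalAbs.mate_id _ _

theorem G_comp {A B C : DCoh.D X} (f : A ⟶ B) (g : B ⟶ C) : G (f ≫ g) = G g ≫ G f := by
  ext M
  show RHomExact.mate _ _ ((dten (X := X)).map (f ≫ g)) M =
    RHomExact.mate _ _ ((dten (X := X)).map g) M ≫ RHomExact.mate _ _ ((dten (X := X)).map f) M
  rw [EvalAbs.mate_comp, Functor.map_comp]

theorem G_unit {A B : DCoh.D X} (f : A ⟶ B) : (G f).app unit = dualMap f := rfl

/-- the isomorphism of right adjoints -/
def Giso {A B : DCoh.D X} (e : A ≅ B) :
    ((dten (X := X)).obj B).rightAdjoint ≅ ((dten (X := X)).obj A).rightAdjoint where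
  hom := G e.hom
  inv := G e.inv
  hom_inv_id := by rw [← G_comp, e.inv_hom_id, G_id]
  inv_hom_id := by rw [← G_comp, e.hom_inv_id, G_id]

/-- derived counit of the bifunctor -/
def cT (A : Cx) : 𝒬 ⋙ (dten (X := X)).obj (DerivedCategory.Q.obj A) ⟶ (DCoh.tensorCx (X := X)).flip.obj A ⋙ 𝒬 :=
  Functor.whiskerLeft 𝒬 ((eps (X := X)).hom.app A) ≫ cu A

theorem isIso_cT {A : Cx} (hA : DCoh.IsKFlat A) : IsIso (cT A) := by
  haveI := isIso_cu hA
  unfold cT
  infer_instance

theorem cT_natural {A B : Cx} (g : A ⟶ B) (P : Cx) :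
    ((dten (X := X)).map (DerivedCategory.Q.map g)).app (DerivedCategory.Q.obj P) ≫ (cT B).app P =
      (cT A).app P ≫ DerivedCategory.Q.map (((DCoh.tensorCx (X := X)).flip.map g).app P) := by
  have h1 : ((dten (X := X)).map (DerivedCategory.Q.map g)).app (DerivedCategory.Q.obj P) ≫
      (eps.hom.app B).app _ = (eps.hom.app A).app _ ≫ (RHom.ltMap g).app (DerivedCategory.Q.obj P) :=
    congr_app ((eps (X := X)).hom.naturality g) _
  simp only [cT, NatTrans.comp_app, Functor.whiskerLeft_app, Category.assoc]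
  erw [reassoc_of% h1]
  exact congrArg (_ ≫ ·) (RHom.ltMap_fac g P)

/-- comparison of the Hom complex with the right adjoint -/
def xi (A J : Cx) : DerivedCategory.Q.obj ((HomCx.H (DCoh.tensorCx (X := X)).flip A).obj J) ⟶
    ((dten (X := X)).obj (DerivedCategory.Q.obj A)).rightAdjoint.obj (DerivedCategory.Q.obj J) :=
  (adjB (DerivedCategory.Q.obj A)).homEquiv _ _ (evG 𝒬 (HomCx.adj (DCoh.tensorCx (X := X)).flip A) (cT A) J)

theorem xi_natural_right (A : Cx) {J J' : Cx} (j : J ⟶ J') :
    DerivedCategory.Q.map ((HomCx.H (DCoh.tensorCx (X := X)).flip A).map j) ≫ xi A J' =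
      xi A J ≫ ((dten (X := X)).obj (DerivedCategory.Q.obj A)).rightAdjoint.map (DerivedCategory.Q.map j) :=
  (xiG 𝒬 (HomCx.adj (DCoh.tensorCx (X := X)).flip A) (adjB (DerivedCategory.Q.obj A)) (cT A) ⊤).naturality
    (ObjectProperty.homMk j : (⟨J, trivial⟩ : (⊤ : ObjectProperty Cx).FullSubcategory) ⟶ ⟨J', trivial⟩)

theorem xi_natural_left {A B : Cx} (g : A ⟶ B) (J : Cx) :
    xi B J ≫ (G (DerivedCategory.Q.map g)).app (DerivedCategory.Q.obj J) =
      DerivedCategory.Q.map (HomCx.m (DCoh.tensorCx (X := X)).flip g J) ≫ xi A J :=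
  xiG_change 𝒬 (HomCx.adj (DCoh.tensorCx (X := X)).flip A) (adjB (DerivedCategory.Q.obj A)) (cT A)
    (HomCx.adj (DCoh.tensorCx (X := X)).flip B) (adjB (DerivedCategory.Q.obj B)) (cT B) ((DCoh.tensorCx (X := X)).flip.map g)
    ((dten (X := X)).map (DerivedCategory.Q.map g)) (cT_natural g) J

theorem isIso_xiT (A J : Cx) [J.IsKInjective] : IsIso (xi A J) := by
  haveI := DualNat.isIso_xi A J
  have key : (adjB (DerivedCategory.Q.obj A)).homEquiv _ _ (evG 𝒬 (HomCx.adj (DCoh.tensorCx (X := X)).flip A) (cT A) J) =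
      (DCoh.RSheafHomAdj A).homEquiv _ _ (evG 𝒬 (HomCx.adj (DCoh.tensorCx (X := X)).flip A) (cu A) J) ≫
        RHomExact.mate (adjB (DerivedCategory.Q.obj A)) (DCoh.RSheafHomAdj A) ((eps (X := X)).hom.app A)
          (DerivedCategory.Q.obj J) := by
    apply ((adjB (DerivedCategory.Q.obj A)).homEquiv _ _).symm.injective
    rw [RHomExact.symm_comp_mate, Equiv.symm_apply_apply, Equiv.symm_apply_apply]
    simp only [evG, cT, NatTrans.comp_app, Functor.whiskerLeft_app, Category.assoc]
  haveI : IsIso (RHomExact.mate (adjB (DerivedCategory.Q.obj A)) (DCoh.RSheafHomAdj A) ((eps (X := X)).hom.app A)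
      (DerivedCategory.Q.obj J)) := EvalAbs.isIso_mate _ _ ((eps (X := X)).app A) _
  unfold xi
  rw [key]
  infer_instance

set_option maxHeartbeats 800000 in
/-- naturality of the symmetry in the second variable -/
theorem commIso_natural₂ (L : Cx) {E E' : Cx} (b : E ⟶ E') :
    ((DCoh.tensorCx (X := X)).map b).app L ≫ (KFlat.commIso L E').hom =
      (KFlat.commIso L E).hom ≫ (Groth.L00.KFlat.T L).map b := by
  ext n : 1
  refine HomologicalComplex.mapBifunctor.hom_ext fun q p h => ?_
  have h' : p + q = n := by dsimp at h; omega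
  rw [HomologicalComplex.comp_f, HomologicalComplex.comp_f,
    ← Category.assoc (f := HomologicalComplex.ιMapBifunctor E L _ _ q p n h),
    ← Category.assoc (f := HomologicalComplex.ιMapBifunctor E L _ _ q p n h), KFlat.commIso_ι,
    show HomologicalComplex.ιMapBifunctor E L (DCoh.tensorBi (X := X)) (ComplexShape.up ℤ) q p n h ≫
      (((DCoh.tensorCx (X := X)).map b).app L).f n =
      ((DCoh.tensorBi (X := X)).map (b.f q)).app (L.X p) ≫
        HomologicalComplex.ιMapBifunctor E' L (DCoh.tensorBi (X := X)) (ComplexShape.up ℤ) q p n h from ?_]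
  · rw [Category.assoc, KFlat.commIso_ι, Category.assoc, Linear.units_smul_comp, BifExact.ι_T_map,
      Linear.comp_units_smul, Linear.comp_units_smul, Linear.comp_units_smul]
    refine congrArg (fun k => ComplexShape.σ (ComplexShape.up ℤ) (ComplexShape.up ℤ) (ComplexShape.up ℤ) p q • k) ?_
    rw [← Category.assoc, ← Category.assoc]
    refine congrArg (fun k => k ≫ HomologicalComplex.ιMapBifunctor L E' (DCoh.tensorBi (X := X)) (ComplexShape.up ℤ) p q n h') ?_
    exact KFlat.commβ_natural₁ (b.f q) (L.X p)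
  · refine (HomologicalComplex.ι_mapBifunctorMap b (𝟙 L) (DCoh.tensorBi (X := X)) (ComplexShape.up ℤ) q p n h).trans ?_
    rw [HomologicalComplex.id_f, CategoryTheory.Functor.map_id, Category.id_comp]

theorem flipIso_natural {K K' : Cx} (g : K ⟶ K') :
    (DCoh.tensorCx (X := X)).map g ≫ (RHom.flipIso K').hom = (RHom.flipIso K).hom ≫ (DCoh.tensorCx (X := X)).flip.map g := by
  ext P : 2
  exact commIso_natural₂ P g

end Groth.L10.SerrePerf
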