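import Groth.Agent.L10.SerrePerf.FieldPair
import Groth.Agent.L07.BvdB.DualFun
import Groth.Agent.L29.BCAdj.HomFinite
import Groth.Prelude.Def_DDual2

/-!
The trace pairing into the dualizing complex of a proper scheme over a field.
-/

set_option autoImplicit false
set_option linter.style.haveILetI false
set_option maxHeartbeats 800000
set_option backward.defeqAttrib.useBackward true
set_option backward.isDefEq.respectTransparency false
set_option backward.isDefEq.respectTransparency.types false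

universe u

open CategoryTheory CategoryTheory.Limits AlgebraicGeometry

attribute [local instance] HasDerivedCategory.standard

noncomputable section

namespace Groth.L10.SerrePerf

open Groth.L00 Groth.L29 Groth.L29.DC Groth.L29.BCAdj Groth.L07.BvdB.DualFun

variable (k : Type u) [Field k]

/-- composition into `O` is a perfect pairing on `D_qc(Spec k)` -/
theorem exists_functional :
    letI : (Spec (CommRingCat.of k)).Over (Spec (CommRingCat.of k)) := ⟨𝟙 _⟩
    ∃ ψ : (OD (Spec (CommRingCat.of k)) ⟶ OD (Spec (CommRingCat.of k))) →ₗ[k] k,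
      ∀ N : DCoh.D (Spec (CommRingCat.of k)), DCoh.IsQCohD N →
        Function.Bijective fun φ : N ⟶ OD (Spec (CommRingCat.of k)) =>
          (ψ ∘ₗ Linear.rightComp k _ φ : Module.Dual k (OD (Spec (CommRingCat.of k)) ⟶ N)) := by
  letI iS : (Spec (CommRingCat.of k)).Over (Spec (CommRingCat.of k)) := ⟨𝟙 _⟩
  let R : CommRingCat.{u} := CommRingCat.of k
  haveI := Groth.L18.TildeF.tilde_preservesFiniteLimits (R := R)
  have hlin : ∀ (a : k) (N : ModuleCat.{u} R),
      (tilde.functor R).map (a • 𝟙 N) = a • 𝟙 ((tilde.functor R).obj N) := fun a N => by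
    rw [KLin.smul_id]
    exact Groth.L17.BC.TensorA.tilde_smul (R := R) a N
  haveI : (tilde.functor R).Additive :=
    haveI : PreservesColimitsOfSize.{0, 0} (tilde.functor R) := tilde.adjunction.leftAdjoint_preservesColimits
    haveI := preservesBinaryBiproducts_of_preservesBinaryCoproducts (tilde.functor R)
    Functor.additive_of_preservesBinaryBiproducts _
  haveI : PreservesFiniteColimits (tilde.functor R) :=
    haveI : PreservesColimitsOfSize.{0, 0} (tilde.functor R) := tilde.adjunction.leftAdjoint_preservesColimits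
    inferInstance
  haveI : (tilde.functor R).Linear k := ⟨fun {N N'} φ a => by
    rw [show a • φ = (a • 𝟙 N) ≫ φ by rw [Linear.smul_comp, Category.id_comp], Functor.map_comp, hlin,
      Linear.smul_comp]
    exact congrArg (a • ·) (Category.id_comp _)⟩
  obtain ⟨hF, hF'⟩ := TildeD.fullyFaithful (R := R)
  let F : ∀ P Q : Dual.D k, (P ⟶ Q) ≃ₗ[k] ((DCoh.tildeD R).obj P ⟶ (DCoh.tildeD R).obj Q) := fun P Q =>
    LinearEquiv.ofBijective ((DCoh.tildeD R).mapLinearMap k)
      ⟨(DCoh.tildeD R).map_injective, (DCoh.tildeD R).map_surjective⟩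
  let eO : (DCoh.tildeD R).obj (Dual.inD k k) ≅ OD (Spec R) :=
    ((tilde.functor R).mapDerivedCategorySingleFunctor 0).app (ModuleCat.of k k) ≪≫
      (DerivedCategory.singleFunctor (Spec R).Modules 0).mapIso tildeSelf
  let E := (F (Dual.inD k k) (Dual.inD k k)).trans (Linear.homCongr k eO eO)
  refine ⟨endEquiv.toLinearMap ∘ₗ E.symm.toLinearMap, fun N hN => ?_⟩
  obtain ⟨N', ⟨eN⟩⟩ := (TildeD.isQCohD_iff (R := R) N).1 hN
  let A := (F N' (Dual.inD k k)).trans (Linear.homCongr k eN eO)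
  let B := (F (Dual.inD k k) N').trans (Linear.homCongr k eO eN)
  have key : ∀ (v : N' ⟶ Dual.inD k k) (y : Dual.inD k k ⟶ N'), B y ≫ A v = E (y ≫ v) := fun v y => by
    simp [A, B, E, F, Linear.homCongr_apply]
  have h : (fun φ : N ⟶ OD (Spec R) =>
      ((endEquiv.toLinearMap ∘ₗ E.symm.toLinearMap) ∘ₗ Linear.rightComp k _ φ :
        Module.Dual k (OD (Spec R) ⟶ N))) =
      B.symm.dualMap ∘ (fun v => (endEquiv.toLinearMap ∘ₗ Linear.rightComp k _ v : Module.Dual k (Dual.inD k k ⟶ N'))) ∘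
        A.symm := by
    funext φ
    obtain ⟨v, rfl⟩ := A.surjective φ
    refine LinearMap.ext fun x => ?_
    obtain ⟨y, rfl⟩ := B.surjective x
    simp [key]
  exact h ▸ B.symm.dualMap.bijective.comp ((bijective_pairing N').comp A.symm.bijective)

variable {X : Scheme.{u}} [X.Over (Spec (CommRingCat.of k))]

/-- the trace on global sections of the dualizing complex gives a perfect pairing -/
theorem exists_trace [DCoh.HasRpush (X ↘ Spec (CommRingCat.of k))]
    (hq : DCoh.RpushPreservesQCoh (X ↘ Spec (CommRingCat.of k)))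
    [DCoh.HasShriek (X ↘ Spec (CommRingCat.of k)) hq] (OY : DCoh.DQCoh (Spec (CommRingCat.of k)))
    (hOY : OY.obj ≅ DCoh.inD (Spec (CommRingCat.of k)) (Coh.structureModule (Spec (CommRingCat.of k)))) :
    ∃ τ : (unit ⟶ DCoh.dualizingCx (X ↘ Spec (CommRingCat.of k)) hq OY) →ₗ[k] k,
      ∀ M : DCoh.D X, DCoh.IsQCohD M → Function.Bijective fun h : M ⟶ DCoh.dualizingCx (X ↘ Spec (CommRingCat.of k)) hq OY =>
        (τ ∘ₗ Linear.rightComp k unit h : Module.Dual k (unit ⟶ M)) := by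
  let f := X ↘ Spec (CommRingCat.of k)
  let Y := Spec (CommRingCat.of k)
  letI iS : (Spec (CommRingCat.of k)).Over (Spec (CommRingCat.of k)) := ⟨𝟙 _⟩
  haveI := KFlat.hasLpull f
  haveI := RpushColim.additive_Rpush f
  obtain ⟨ψ, hψ⟩ := exists_functional k
  obtain ⟨o⟩ := nonempty_Lpull_OD f
  let oQ : DerivedCategory.Q.obj (RHom.O0 X) ≅ OD X :=
    (((SingleFunctors.evaluation _ _ 0).mapIso
      (DerivedCategory.singleFunctorsPostcompQIso X.Modules)).app (Coh.structureModule X)).symm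
  let eO : (DCoh.Lpull f).obj (OD Y) ≅ unit := o ≪≫ oQ.symm
  have hsq : f ≫ (Spec (CommRingCat.of k) ↘ Spec (CommRingCat.of k)) =
      f ≫ Spec.map (CommRingCat.ofHom (RingHom.id k)) := by
    rw [CommRingCat.ofHom_id, Spec.map_id]; rfl
  have h2 : ∀ {P Q : DCoh.D X} (r : k) (v : P ⟶ Q), (DCoh.Rpush f).map (r • v) = r • (DCoh.Rpush f).map v :=
    fun r v => Rpush_smul (RingHom.id k) f hsq r v
  let Θ : ∀ M : DCoh.D X, (unit ⟶ M) ≃ₗ[k] (OD Y ⟶ (DCoh.Rpush f).obj M) := fun M =>
    { (Iso.homCongr eO.symm (Iso.refl M)).trans ((BC.adj f).homEquiv (OD Y) M) with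
      map_add' := fun u v => by simp [Adjunction.homEquiv_unit]
      map_smul' := fun r u => by simp [Adjunction.homEquiv_unit, h2] }
  have hΘ : ∀ {M M' : DCoh.D X} (x : unit ⟶ M) (h : M ⟶ M'), Θ M' (x ≫ h) = Θ M x ≫ (DCoh.Rpush f).map h :=
    fun x h => by
      change (BC.adj f).homEquiv _ _ (eO.hom ≫ (x ≫ h) ≫ 𝟙 _) =
        (BC.adj f).homEquiv _ _ (eO.hom ≫ x ≫ 𝟙 _) ≫ _
      simp [Adjunction.homEquiv_unit]
  let W := DCoh.dualizingCx f hq OY
  let tr : (DCoh.Rpush f).obj W ⟶ OD Y := ((DCoh.shriekAdj f hq).counit.app OY).hom ≫ hOY.hom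
  refine ⟨(ψ ∘ₗ Linear.rightComp k _ tr) ∘ₗ (Θ W).toLinearMap, fun M hM => ?_⟩
  let Φ : (M ⟶ W) → ((DCoh.Rpush f).obj M ⟶ OD Y) := fun h => (DCoh.Rpush f).map h ≫ tr
  have hΦ : Function.Bijective Φ := by
    let MQ : DCoh.DQCoh X := ⟨M, hM⟩
    have e : Φ = (fun g : (DCoh.Rpush f).obj M ⟶ OY.obj => g ≫ hOY.hom) ∘ (fun g : (DCoh.RpushQ f hq).obj MQ ⟶ OY => g.hom) ∘
        ((DCoh.shriekAdj f hq).homEquiv MQ OY).symm ∘
          (fun h : M ⟶ W => (ObjectProperty.homMk h : MQ ⟶ (DCoh.shriek f hq).obj OY)) := funext fun h => by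
      simp only [Φ, tr, Function.comp_apply, Adjunction.homEquiv_counit, ← Category.assoc]
      rfl
    rw [e]
    refine Function.Bijective.comp ?_ ?_
    · exact ⟨fun a b h => (cancel_mono hOY.hom).1 h, fun g => ⟨g ≫ hOY.inv, by simp⟩⟩
    · exact Function.Bijective.comp ⟨fun a b h => ObjectProperty.hom_ext _ h, fun g => ⟨ObjectProperty.homMk g, rfl⟩⟩
        (((DCoh.shriekAdj f hq).homEquiv MQ OY).symm.bijective.comp
          ⟨fun a b h => congrArg (fun t => t.hom) h, fun g => ⟨g.hom, rfl⟩⟩)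
  have e : (fun h : M ⟶ W => (((ψ ∘ₗ Linear.rightComp k _ tr) ∘ₗ (Θ W).toLinearMap) ∘ₗ Linear.rightComp k unit h :
      Module.Dual k (unit ⟶ M))) =
      (Θ M).dualMap ∘ (fun φ => (ψ ∘ₗ Linear.rightComp k _ φ : Module.Dual k (OD Y ⟶ (DCoh.Rpush f).obj M))) ∘ Φ := by
    funext h
    refine LinearMap.ext fun x => ?_
    change ψ (Θ W (x ≫ h) ≫ tr) = ψ (Θ M x ≫ Φ h)
    rw [hΘ, Category.assoc]
  exact e ▸ (Θ M).dualMap.bijective.comp ((hψ _ (hq M hM)).comp hΦ)

end Groth.L10.SerrePerf
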