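import Groth.Agent.L10.TopDual.Alg
import Mathlib.Algebra.Homology.HomotopyCategory.KInjective
import Mathlib.Algebra.Homology.DerivedCategory.KInjective
import Mathlib.LinearAlgebra.Basis.VectorSpace

/-!
Over a field, composition into `k[0]` is a perfect pairing on `D(k)`.
-/

set_option autoImplicit false
set_option backward.defeqAttrib.useBackward true
set_option backward.isDefEq.respectTransparency false
set_option backward.isDefEq.respectTransparency.types false
set_option linter.style.haveILetI false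

universe u

open CategoryTheory CategoryTheory.Limits CategoryTheory.Pretriangulated DerivedCategory

attribute [local instance] HasDerivedCategory.standard

noncomputable section

namespace Groth.L10.SerrePerf

open Groth.L29.HomD

variable {k : Type u} [Field k]

theorem injective_of_field (V : ModuleCat.{u} k) : Injective V where
  factors {X Y} g f _ := by
    obtain ⟨r, hr⟩ := f.hom.exists_leftInverse_of_injective
      (LinearMap.ker_eq_bot.2 ((ModuleCat.mono_iff_injective f).1 inferInstance))
    refine ⟨ModuleCat.ofHom (g.hom ∘ₗ r), ModuleCat.hom_ext (LinearMap.ext fun x => ?_)⟩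
    exact congrArg g.hom (LinearMap.congr_fun hr x)

/-- `k[0]` receives no maps from objects living in positive degrees -/
theorem hom_eq_zero_of_isGE (P : Dual.D k) [P.IsGE 1] (φ : P ⟶ Dual.inD k k) : φ = 0 := by
  obtain ⟨L, _, ⟨e⟩⟩ := exists_iso_Q_obj_of_isGE P 1
  let K := (CochainComplex.singleFunctor (ModuleCat.{u} k) 0).obj (ModuleCat.of k k)
  haveI : ∀ n, Injective (K.X n) := fun n => injective_of_field _
  haveI : K.IsKInjective := CochainComplex.isKInjective_of_injective K 0
  let eA : Dual.inD k k ≅ Q.obj K :=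
    ((SingleFunctors.evaluation _ _ 0).mapIso (singleFunctorsPostcompQIso (ModuleCat.{u} k))).app _
  let ψ : Q.obj L ⟶ Q.obj K := e.inv ≫ φ ≫ eA.hom
  have hψ : ψ = 0 := by
    obtain ⟨χ, hχ⟩ := (CochainComplex.IsKInjective.Qh_map_bijective
      ((HomotopyCategory.quotient _ _).obj L) K).2
        ((quotientCompQhIso _).hom.app L ≫ ψ ≫ (quotientCompQhIso _).inv.app K)
    obtain ⟨c, rfl⟩ := (HomotopyCategory.quotient _ _).map_surjective χ
    have hc : c = 0 := by
      ext n : 1
      by_cases h : n = 0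
      · subst h; exact (L.isZero_of_isStrictlyGE 1 0 (by lia)).eq_of_src _ _
      · exact (HomologicalComplex.isZero_single_obj_X (ComplexShape.up ℤ) 0 _ n h).eq_of_tgt _ _
    rw [hc, Functor.map_zero, Functor.map_zero] at hχ
    calc ψ = (quotientCompQhIso _).inv.app L ≫
          ((quotientCompQhIso _).hom.app L ≫ ψ ≫ (quotientCompQhIso _).inv.app K) ≫
            (quotientCompQhIso _).hom.app K := by simp
      _ = 0 := by rw [← hχ]; simp
  calc φ = e.hom ≫ ψ ≫ eA.inv := by simp [ψ]
    _ = 0 := by rw [hψ]; simp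

/-- maps into `k[0]` are the linear maps on `Hom(k, -)` -/
theorem existsUnique_hom_field (N : Dual.D k)
    (l : (Dual.inD k k ⟶ N) →ₗ[k] (Dual.inD k k ⟶ Dual.inD k k)) :
    ∃! v : N ⟶ Dual.inD k k, ∀ y : Dual.inD k k ⟶ N, y ≫ v = l y := by
  let t := DerivedCategory.TStructure.t (C := ModuleCat.{u} k)
  let N' := (t.truncLT 1).obj N
  let ι : N' ⟶ N := (t.truncLTι 1).app N
  haveI : N'.IsLE 0 := t.isLE_truncLT_obj _ _ _ (by omega)
  haveI := Groth.L10.isIso_H_ι (A := ModuleCat.{u} k) 1 0 (by omega) N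
  have hι : Function.Bijective fun y : Dual.inD k k ⟶ N' => y ≫ ι := by
    have h := fun y => Groth.L10.TopDual.evalOne_comp (A := k) y ι
    constructor
    · intro a b hab
      refine (evalOne_bijective N').1 ((ConcreteCategory.bijective_of_isIso
        ((homologyFunctor (ModuleCat.{u} k) 0).map ι)).1 ?_)
      exact ((h a).symm.trans (congrArg (evalOne N) hab)).trans (h b)
    · intro y
      obtain ⟨z, hz⟩ := (ConcreteCategory.bijective_of_isIso
        ((homologyFunctor (ModuleCat.{u} k) 0).map ι)).2 (evalOne N y)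
      obtain ⟨a, rfl⟩ := (evalOne_bijective N').2 z
      exact ⟨a, (evalOne_bijective N).1 ((h a).trans hz)⟩
  let P := (t.truncGE 1).obj N
  haveI : P.IsGE 1 := inferInstanceAs (t.IsGE P 1)
  haveI : DerivedCategory.IsGE (P⟦(-1 : ℤ)⟧) 1 := by
    have := t.isGE_shift P 1 (-1) 2 (by omega)
    exact t.isGE_of_ge _ 1 2 (by omega)
  have hT := t.triangleLTGE_distinguished 1 N
  obtain ⟨v', hv', hu'⟩ := Groth.L10.TopDual.existsUnique_hom N' (Dual.inD k k)
    (l ∘ₗ Linear.rightComp k _ ι)
  obtain ⟨v, hv⟩ : ∃ v : N ⟶ Dual.inD k k, v' = ι ≫ v :=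
    Triangle.yoneda_exact₂ _ (inv_rot_of_distTriang _ hT) v' (hom_eq_zero_of_isGE (P⟦(-1 : ℤ)⟧) _)
  refine ⟨v, fun y => ?_, fun w hw => ?_⟩
  · obtain ⟨a, rfl⟩ := hι.2 y
    simp only [Category.assoc, ← hv]
    exact hv' a
  · have h0 : ι ≫ (w - v) = 0 := by
      rw [Preadditive.comp_sub, ← hv, sub_eq_zero]
      exact hu' _ fun a => by rw [← Category.assoc]; exact hw _
    obtain ⟨g, hg⟩ := Triangle.yoneda_exact₂ _ hT (w - v) h0
    rw [hom_eq_zero_of_isGE P g] at hg
    exact sub_eq_zero.1 (hg.trans comp_zero)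

/-- `End(k[0]) = k` -/
def endEquiv : (Dual.inD k k ⟶ Dual.inD k k) ≃ₗ[k] k :=
  (evalEquiv (Dual.inD k k)).trans
    ((singleFunctorCompHomologyFunctorIso (ModuleCat.{u} k) 0).app (ModuleCat.of k k)).toLinearEquiv

/-- the perfect pairing -/
theorem bijective_pairing (N : Dual.D k) : Function.Bijective fun v : N ⟶ Dual.inD k k =>
    (endEquiv.toLinearMap ∘ₗ Linear.rightComp k _ v : Module.Dual k (Dual.inD k k ⟶ N)) := by
  constructor
  · intro v w h
    obtain ⟨v₀, hv₀, hu⟩ := existsUnique_hom_field N (Linear.rightComp k _ v)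
    exact ((hu v fun y => rfl).trans (hu w fun y => (endEquiv (k := k)).injective (LinearMap.congr_fun h y).symm).symm)
  · intro ξ
    obtain ⟨v, hv, -⟩ := existsUnique_hom_field N (endEquiv.symm.toLinearMap ∘ₗ ξ)
    refine ⟨v, LinearMap.ext fun y => ?_⟩
    change endEquiv (y ≫ v) = ξ y
    rw [hv y]
    exact endEquiv.apply_symm_apply _

end Groth.L10.SerrePerf
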