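import Groth.Agent.L10.SerrePerf.Bidual
import Groth.Agent.L29.Serre
import Groth.Agent.L29.DCoh.TensorPerfect
import Groth.Agent.L29.BC.AdjTensorGlobal
import Groth.Agent.S6742
import Groth.Prelude.Def_KLin2

/-!
The Serre functor of perfect objects from a perfect pairing into a perfect object.
-/

set_option autoImplicit false
set_option linter.style.haveILetI false
set_option linter.unusedSectionVars false
set_option maxHeartbeats 800000
set_option maxSynthPendingDepth 4
set_option backward.defeqAttrib.useBackward true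
set_option backward.isDefEq.respectTransparency false
set_option backward.isDefEq.respectTransparency.types false

universe u

open CategoryTheory CategoryTheory.Limits AlgebraicGeometry
attribute [local instance] HasDerivedCategory.standard

noncomputable section

namespace Groth.L10.SerrePerf

open Groth.L00 Groth.L29 Groth.L29.DC Groth.L07.BvdB.DualFun

attribute [local instance] KFlat.hasLTensorCx RHom.hasRSheafHom

variable {X : Scheme.{u}}

/-- the unit on the right -/
def unitIso' : (dten (X := X)).flip.obj unit ≅ 𝟭 (DCoh.D X) :=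
  flipIso (RHom.O0 X) (isKFlat_of_isStrictlyPerfect RHom.isStrictlyPerfect_O0) ≪≫ ltUnitIso

/-- biduality -/
def η2 {A : DCoh.D X} (hA : DCoh.IsPerfect A) : A ≅ dual (dual A) :=
  (unitIso'.app A).symm ≪≫ (ηD hA).app unit

theorem η2_natural {A B : DCoh.D X} (hA : DCoh.IsPerfect A) (hB : DCoh.IsPerfect B) (f : A ⟶ B) :
    f ≫ (η2 hB).hom = (η2 hA).hom ≫ dualMap (dualMap f) := by
  have h1 := (unitIso' (X := X)).inv.naturality f
  simp only [Functor.id_map, Functor.id_obj, Functor.flip_obj_map] at h1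
  have h2 := congr_app (ηD_natural hA hB f) unit
  simp only [NatTrans.comp_app] at h2
  simp only [η2, Iso.trans_hom, Iso.symm_hom, Iso.app_inv, Iso.app_hom, Category.assoc]
  rw [reassoc_of% h1, h2]
  rfl

/-- the unit twisted by the bidual -/
def ν {A : DCoh.D X} (hA : DCoh.IsPerfect A) :
    A ≅ ((dten (X := X)).obj (dual (dual A))).obj unit :=
  η2 hA ≪≫ (unitIso'.app (dual (dual A))).symm

theorem ν_natural {A B : DCoh.D X} (hA : DCoh.IsPerfect A) (hB : DCoh.IsPerfect B) (f : A ⟶ B) :
    f ≫ (ν hB).hom = (ν hA).hom ≫ ((dten (X := X)).map (dualMap (dualMap f))).app unit := by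
  have h1 := (unitIso' (X := X)).inv.naturality (dualMap (dualMap f))
  simp only [Functor.id_map, Functor.id_obj, Functor.flip_obj_map] at h1
  simp only [ν, Iso.trans_hom, Iso.symm_hom, Iso.app_inv, Category.assoc]
  rw [reassoc_of% (η2_natural hA hB f), h1]

theorem isPerfect_unit : DCoh.IsPerfect (unit (X := X)) := Groth.L29.BC.AdjTensor.isPerfect_O0

theorem isPerfect_dten {A B : DCoh.D X} (hA : DCoh.IsPerfect A) (hB : DCoh.IsPerfect B) :
    DCoh.IsPerfect (((dten (X := X)).obj A).obj B) :=
  isPerfect_of_iso ((objIso A).app B).symm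
    (isPerfect_LTensorCx (rep A) (isKFlat_rep A) (isPerfect_of_iso (repIso A).symm hA) B hB)

variable {k : Type u} [Field k] [X.Over (Spec (CommRingCat.of k))]

/-- transposition, linearly -/
def adjL (A M N : DCoh.D X) :
    (((dten (X := X)).obj A).obj M ⟶ N) ≃ₗ[k] (M ⟶ ((dten (X := X)).obj A).rightAdjoint.obj N) :=
  haveI : ((dten (X := X)).obj A).rightAdjoint.Additive := (adjB A).right_adjoint_additive
  { (adjB A).homEquiv M N with
    map_add' := fun x y => by simp [Adjunction.homEquiv_unit]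
    map_smul' := fun r x => by simp [Adjunction.homEquiv_unit, right_smul] }

theorem symm_comp_G {A B M N : DCoh.D X} (f : A ⟶ B) (x : M ⟶ ((dten (X := X)).obj B).rightAdjoint.obj N) :
    (adjL (k := k) A M N).symm (x ≫ (G f).app N) =
      ((dten (X := X)).map f).app M ≫ (adjL (k := k) B M N).symm x :=
  RHomExact.symm_comp_mate (adjB A) (adjB B) ((dten (X := X)).map f) x

theorem adjL_symm_natural {A M M' N : DCoh.D X} (g : M' ⟶ M) (x : M ⟶ ((dten (X := X)).obj A).rightAdjoint.obj N) :
    (adjL (k := k) A M' N).symm (g ≫ x) = ((dten (X := X)).obj A).map g ≫ (adjL (k := k) A M N).symm x :=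
  (adjB A).homEquiv_naturality_left_symm g x

theorem adjL_symm_natural_right {A M N N' : DCoh.D X} (g : N ⟶ N')
    (x : M ⟶ ((dten (X := X)).obj A).rightAdjoint.obj N) :
    (adjL (k := k) A M N').symm (x ≫ ((dten (X := X)).obj A).rightAdjoint.map g) =
      (adjL (k := k) A M N).symm x ≫ g :=
  (adjB A).homEquiv_naturality_right_symm x g

variable (k) in
/-- maps into a twist are maps out of the dual twist -/
def aEquiv {K : DCoh.D X} (hK : DCoh.IsPerfect K) (L W : DCoh.D X) :
    (L ⟶ ((dten (X := X)).obj K).obj W) ≃ₗ[k] (((dten (X := X)).obj (dual K)).obj L ⟶ W) :=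
  (Linear.homCongr k (Iso.refl L) ((ηD hK).app W)).trans (adjL (dual K) L W).symm

theorem aEquiv_apply {K : DCoh.D X} (hK : DCoh.IsPerfect K) (L W : DCoh.D X)
    (v : L ⟶ ((dten (X := X)).obj K).obj W) :
    aEquiv k hK L W v = (adjL (k := k) (dual K) L W).symm (v ≫ (ηD hK).hom.app W) := by
  simp [aEquiv, Linear.homCongr_apply]

theorem aEquiv_natural_left {K : DCoh.D X} (hK : DCoh.IsPerfect K) {L L' : DCoh.D X} (W : DCoh.D X)
    (g : L' ⟶ L) (v : L ⟶ ((dten (X := X)).obj K).obj W) :
    aEquiv k hK L' W (g ≫ v) = ((dten (X := X)).obj (dual K)).map g ≫ aEquiv k hK L W v := by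
  rw [aEquiv_apply, aEquiv_apply, Category.assoc, adjL_symm_natural]

theorem aEquiv_natural_K {K K' : DCoh.D X} (hK : DCoh.IsPerfect K) (hK' : DCoh.IsPerfect K') (L W : DCoh.D X)
    (e : K' ⟶ K) (v : L ⟶ ((dten (X := X)).obj K').obj W) :
    aEquiv k hK L W (v ≫ ((dten (X := X)).map e).app W) =
      ((dten (X := X)).map (dualMap e)).app L ≫ aEquiv k hK' L W v := by
  have h : ((dten (X := X)).map e).app W ≫ (ηD hK).hom.app W = (ηD hK').hom.app W ≫ (G (dualMap e)).app W :=
    congr_app (ηD_natural hK' hK e) W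
  rw [aEquiv_apply, aEquiv_apply, Category.assoc, h, ← Category.assoc, symm_comp_G]

variable (k) in
/-- sections of the dual twist are maps -/
def bEquiv {K : DCoh.D X} (hK : DCoh.IsPerfect K) (L : DCoh.D X) :
    (unit ⟶ ((dten (X := X)).obj (dual K)).obj L) ≃ₗ[k] (K ⟶ L) :=
  (aEquiv k (isPerfect_dual hK) unit L).trans (Linear.homCongr k (ν hK).symm (Iso.refl L))

theorem bEquiv_apply {K : DCoh.D X} (hK : DCoh.IsPerfect K) (L : DCoh.D X)
    (x : unit ⟶ ((dten (X := X)).obj (dual K)).obj L) :
    bEquiv k hK L x = (ν hK).hom ≫ aEquiv k (isPerfect_dual hK) unit L x := by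
  simp [bEquiv, Linear.homCongr_apply]

theorem bEquiv_natural_right {K : DCoh.D X} (hK : DCoh.IsPerfect K) {L L' : DCoh.D X} (g : L ⟶ L')
    (x : unit ⟶ ((dten (X := X)).obj (dual K)).obj L) :
    bEquiv k hK L' (x ≫ ((dten (X := X)).obj (dual K)).map g) = bEquiv k hK L x ≫ g := by
  rw [bEquiv_apply, bEquiv_apply, aEquiv_apply, aEquiv_apply, Category.assoc,
    (ηD (isPerfect_dual hK)).hom.naturality g, ← Category.assoc, adjL_symm_natural_right, Category.assoc]

theorem bEquiv_natural_left {K K' : DCoh.D X} (hK : DCoh.IsPerfect K) (hK' : DCoh.IsPerfect K') (L : DCoh.D X)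
    (e : K' ⟶ K) (x : unit ⟶ ((dten (X := X)).obj (dual K)).obj L) :
    bEquiv k hK' L (x ≫ ((dten (X := X)).map (dualMap e)).app L) = e ≫ bEquiv k hK L x := by
  rw [bEquiv_apply, bEquiv_apply, aEquiv_natural_K (k := k) (isPerfect_dual hK') (isPerfect_dual hK) unit L (dualMap e),
    ← Category.assoc, ← Category.assoc, ν_natural hK' hK e]

section Serre

variable [IsProper (X ↘ Spec (CommRingCat.of k))] {W : DCoh.D X} (hW : DCoh.IsPerfect W)
  (τ : (unit ⟶ W) →ₗ[k] k)
  (hτ : ∀ M : DCoh.D X, DCoh.IsPerfect M →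
    Function.Bijective fun h : M ⟶ W => (τ ∘ₗ Linear.rightComp k unit h : Module.Dual k (unit ⟶ M)))


include k in
theorem finite_hom {A B : DCoh.D X} (hA : DCoh.IsPerfect A) (hB : DCoh.IsPerfect B) : Module.Finite k (A ⟶ B) := by
  haveI : IsLocallyNoetherian X := LocallyOfFiniteType.isLocallyNoetherian (X ↘ Spec (CommRingCat.of k))
  haveI : CompactSpace X := QuasiCompact.compactSpace_of_compactSpace (X ↘ Spec (CommRingCat.of k))
  obtain ⟨a, b, ha, hb⟩ := Groth.L29.CohSupp.exists_bounds_of_perfect hB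
  haveI := (Groth.Agent.S6742.result k X B ⟨Groth.L29.CohSupp.isCohD_of_perfect hB, a, b, ha, hb⟩ A hA).1 0
  exact Module.Finite.equiv (Linear.homCongr k (Iso.refl A) ((shiftFunctorZero (DCoh.D X) ℤ).app B))

variable (k) in
/-- Homs in the full subcategory -/
def homE (A B : (SGA6.perfP X).FullSubcategory) : (A ⟶ B) ≃ₗ[k] (A.obj ⟶ B.obj) where
  toFun f := f.hom
  invFun f := ObjectProperty.homMk f
  map_add' _ _ := rfl
  map_smul' _ _ := rfl

instance finite_hom_perfP (A B : (SGA6.perfP X).FullSubcategory) : Module.Finite k (A ⟶ B) :=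
  haveI := finite_hom (k := k) A.property B.property
  Module.Finite.equiv (homE k A B).symm

/-- the twist by `W` on perfect objects -/
def twist (hW : DCoh.IsPerfect W) : (SGA6.perfP X).FullSubcategory ⥤ (SGA6.perfP X).FullSubcategory :=
  ObjectProperty.lift (SGA6.perfP X) ((SGA6.perfP X).ι ⋙ (dten (X := X)).flip.obj W)
    (fun A => isPerfect_dten A.property hW)

instance : (twist hW).Additive where
  map_add {_ _ f g} := ObjectProperty.hom_ext _ (((dten (X := X)).flip.obj W).map_add)

instance : (twist hW).Linear k where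
  map_smul f r := ObjectProperty.hom_ext _ (Functor.map_smul ((dten (X := X)).flip.obj W) r f.hom)

include hτ in
/-- the pairing -/
def pair {M : DCoh.D X} (hM : DCoh.IsPerfect M) : (M ⟶ W) ≃ₗ[k] Module.Dual k (unit ⟶ M) :=
  LinearEquiv.ofBijective
    { toFun := fun h => τ ∘ₗ Linear.rightComp k unit h
      map_add' := fun a b => by ext x; simp
      map_smul' := fun r a => by ext x; simp }
    (hτ M hM)

/-- the duality -/
def cEquiv (A B : (SGA6.perfP X).FullSubcategory) : (A ⟶ B) ≃ₗ[k] Module.Dual k (B ⟶ (twist hW).obj A) :=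
  haveI := finite_hom (k := k) (isPerfect_unit (X := X)) (isPerfect_dten (isPerfect_dual A.property) B.property)
  (((homE k A B).trans (bEquiv k A.property B.obj).symm).trans (Module.evalEquiv k _)).trans
    (((pair τ hτ (isPerfect_dten (isPerfect_dual A.property) B.property)).dualMap).trans
      ((homE k B ((twist hW).obj A)).trans (aEquiv k A.property B.obj W)).dualMap)

theorem cEquiv_apply (A B : (SGA6.perfP X).FullSubcategory) (f : A ⟶ B) (h : B ⟶ (twist hW).obj A) :
    cEquiv hW τ hτ A B f h =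
      τ ((bEquiv k A.property B.obj).symm f.hom ≫ aEquiv k A.property B.obj W h.hom) := rfl

/-- Serre data -/
def data : Groth.L29.Serre.Data (k := k) (twist hW) where
  c := cEquiv hW τ hτ
  nat₁ A B B' f g := by
    ext h
    simp only [LinearMap.comp_apply, cEquiv_apply]
    show _ = τ (_ ≫ aEquiv k A.property B.obj W (g.hom ≫ h.hom))
    have hb : (bEquiv k A.property B'.obj).symm (f.hom ≫ g.hom) =
        (bEquiv k A.property B.obj).symm f.hom ≫ ((dten (X := X)).obj (dual A.obj)).map g.hom := by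
      rw [LinearEquiv.symm_apply_eq, bEquiv_natural_right, LinearEquiv.apply_symm_apply]
    rw [show (f ≫ g).hom = f.hom ≫ g.hom from rfl, hb, aEquiv_natural_left, Category.assoc]
  nat₂ A' A B e f := by
    ext h
    simp only [LinearMap.comp_apply, cEquiv_apply]
    show _ = τ (_ ≫ aEquiv k A.property B.obj W (h.hom ≫ ((dten (X := X)).map e.hom).app W))
    have hb : (bEquiv k A'.property B.obj).symm (e.hom ≫ f.hom) =
        (bEquiv k A.property B.obj).symm f.hom ≫ ((dten (X := X)).map (dualMap e.hom)).app B.obj := by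
      rw [LinearEquiv.symm_apply_eq, bEquiv_natural_left A.property A'.property, LinearEquiv.apply_symm_apply]
    rw [show (e ≫ f).hom = e.hom ≫ f.hom from rfl, hb, aEquiv_natural_K A.property A'.property, Category.assoc]

/-- duality on Homs of perfect objects -/
theorem bijective_dualMap {A B : DCoh.D X} (hA : DCoh.IsPerfect A) (hB : DCoh.IsPerfect B) :
    Function.Bijective (dualMap : (A ⟶ B) → (dual B ⟶ dual A)) := by
  have inj : ∀ {A B : DCoh.D X}, DCoh.IsPerfect A → DCoh.IsPerfect B →
      Function.Injective (dualMap : (A ⟶ B) → (dual B ⟶ dual A)) := fun {A B} hA hB f g h => by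
    rw [← cancel_mono (η2 hB).hom, η2_natural hA hB, η2_natural hA hB, h]
  refine ⟨inj hA hB, fun g => ⟨(η2 hA).hom ≫ dualMap g ≫ (η2 hB).inv, ?_⟩⟩
  refine inj (isPerfect_dual hB) (isPerfect_dual hA) ?_
  rw [← cancel_epi (η2 hA).hom, ← η2_natural hA hB]
  simp

variable (k) in
/-- duality, linearly -/
def dualEquiv {A B : DCoh.D X} (hA : DCoh.IsPerfect A) (hB : DCoh.IsPerfect B) :
    (A ⟶ B) ≃ₗ[k] (dual B ⟶ dual A) :=
  LinearEquiv.ofBijective
    { toFun := dualMap
      map_add' := dualMap_add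
      map_smul' := dualMap_smul }
    (bijective_dualMap hA hB)

include hτ in
theorem isEquivalence_twist : (twist hW).IsEquivalence := by
  let d := data hW τ hτ
  let e : ∀ A B : (SGA6.perfP X).FullSubcategory, (B ⟶ (twist hW).obj A) ≃ₗ[k] Module.Dual k (A ⟶ B) := fun A B =>
    (Module.evalEquiv k _).trans (d.c A B).dualMap
  have he : ∀ (A B B' : (SGA6.perfP X).FullSubcategory) (g : B' ⟶ B) (f : B ⟶ (twist hW).obj A),
      e A B' (g ≫ f) = (e A B f) ∘ₗ Linear.rightComp k A g := fun A B B' g f => by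
    ext φ
    exact (d.nat₁_apply φ g f).symm
  have hR : ∀ Y : (SGA6.perfP X).FullSubcategory, ∃ (RY : (SGA6.perfP X).FullSubcategory) (r : ∀ Z : (SGA6.perfP X).FullSubcategory, (RY ⟶ Z) ≃ₗ[k] Module.Dual k (Z ⟶ Y)),
      ∀ (Z Z' : (SGA6.perfP X).FullSubcategory) (g : Z ⟶ Z') (f : RY ⟶ Z), r Z' (f ≫ g) = (r Z f) ∘ₗ Linear.leftComp k Y g := by
    intro Y
    let DY : (SGA6.perfP X).FullSubcategory := ⟨dual Y.obj, isPerfect_dual Y.property⟩
    let S := (twist hW).obj DY
    let RY : (SGA6.perfP X).FullSubcategory := ⟨dual S.obj, isPerfect_dual S.property⟩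
    let DZ : (SGA6.perfP X).FullSubcategory → (SGA6.perfP X).FullSubcategory := fun Z => ⟨dual Z.obj, isPerfect_dual Z.property⟩
    refine ⟨RY, fun Z => (homE k RY Z).trans ((dualEquiv k RY.property Z.property).trans
      ((Linear.homCongr k (Iso.refl _) (η2 S.property).symm).trans ((homE k (DZ Z) S).symm.trans
        ((e DY (DZ Z)).trans (((homE k Z Y).trans (dualEquiv k Z.property Y.property)).trans
          (homE k DY (DZ Z)).symm).dualMap)))), fun Z Z' g f => ?_⟩
    ext φ
    show e DY (DZ Z') (ObjectProperty.homMk (((Iso.refl _).inv ≫ dualMap (f.hom ≫ g.hom)) ≫ (η2 S.property).inv))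
        (ObjectProperty.homMk (dualMap φ.hom)) =
      e DY (DZ Z) (ObjectProperty.homMk (((Iso.refl _).inv ≫ dualMap f.hom) ≫ (η2 S.property).inv))
        (ObjectProperty.homMk (dualMap (g.hom ≫ φ.hom)))
    rw [show (ObjectProperty.homMk (((Iso.refl _).inv ≫ dualMap (f.hom ≫ g.hom)) ≫ (η2 S.property).inv) : DZ Z' ⟶ S) =
        (ObjectProperty.homMk (dualMap g.hom) : DZ Z' ⟶ DZ Z) ≫
          ObjectProperty.homMk (((Iso.refl _).inv ≫ dualMap f.hom) ≫ (η2 S.property).inv) from
        ObjectProperty.hom_ext _ (by simp [dualMap_comp]), he, LinearMap.comp_apply]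
    exact congrArg _ (ObjectProperty.hom_ext _ (dualMap_comp g.hom φ.hom).symm)
  obtain ⟨S, hS₁, hS₂, c, hc₁, hc₂⟩ := Groth.L29.Serre.exists_equivalence (twist hW).obj e he hR
  exact Functor.isEquivalence_of_iso (Groth.L29.Serre.iso ⟨c, hc₁, hc₂⟩ d)

include hτ in
/-- the Serre functor -/
theorem exists_serreFunctor : ∃ σ : KLin.SerreFunctor k (SGA6.perfP X).FullSubcategory, σ.S.functor = twist hW :=
  haveI := isEquivalence_twist hW τ hτ
  ⟨{ S := (twist hW).asEquivalence
     linear := inferInstanceAs ((twist hW).Linear k)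
     homIso := (data hW τ hτ).c
     homIso_comp := fun f g h => (data hW τ hτ).nat₁_apply f g h
     homIso_precomp := fun e f h => (data hW τ hτ).nat₂_apply e f h }, rfl⟩

end Serre

end Groth.L10.SerrePerf
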